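import Groth.Agent.Ega2Proj.SpanOn
import Groth.Agent.Ega2Proj.TwistExtend
import Groth.Agent.VarietyBC.GGen
import Groth.Agent.QCohMod.QCQS

/-!
# The counit `f^* f_* G ⟶ G` and generation on preimages of opens
-/

set_option autoImplicit false
universe u
open CategoryTheory CategoryTheory.Limits AlgebraicGeometry TopologicalSpace Opposite

set_option backward.isDefEq.respectTransparency.types false

namespace Groth.LimGen

open Groth.PicAux Groth.PropsBasic.Ample Groth.Ega2Proj

variable {X Y : Scheme.{u}}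

/-- Spanning by sections over `D` gives generation of the restriction to `D`. -/
theorem spansStalks_restrict_of_spanOn (G : X.Modules) (D : X.Opens)
    (h : ∀ (z : X) (hz : z ∈ D), spanOn G D z hz = ⊤) : SpansStalks (G.restrict D.ι) := by
  intro w
  let Φ := (Scheme.Modules.restrictStalkNatIso D.ι w).hom.app G
  have hΦ : ∀ (V : D.toScheme.Opens) (hV : w ∈ V) (m : Γ(G.restrict D.ι, V)),
      Φ (Groth.QCohMod.germ (G.restrict D.ι) w hV m) =
        Groth.QCohMod.germ G w.1 (U := D.ι ''ᵁ V) ⟨w, hV, rfl⟩ (m : Γ(G, D.ι ''ᵁ V)) :=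
    fun V hV m => ConcreteCategory.congr_hom
      (Scheme.Modules.germ_restrictStalkNatIso_hom_app D.ι w G hV) m
  have hΦinj : Function.Injective Φ := (ConcreteCategory.bijective_of_isIso Φ).1
  let S := Submodule.span (D.toScheme.presheaf.stalk w)
    (Set.range fun t : Γ(G.restrict D.ι, (⊤ : D.toScheme.Opens)) =>
      Groth.QCohMod.germ (G.restrict D.ι) w (Set.mem_univ w : w ∈ (⊤ : D.toScheme.Opens)) t)
  have key : ∀ b ∈ spanOn G D w.1 w.2, ∃ a ∈ S, Φ a = b := by
    intro b hb
    induction hb using Submodule.span_induction with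
    | mem b hb =>
      obtain ⟨t, rfl⟩ := hb
      refine ⟨_, Submodule.subset_span
        ⟨(Groth.PicAux.res G (Scheme.Opens.ι_image_le D ⊤) t : Γ(G, D.ι ''ᵁ ⊤)), rfl⟩, ?_⟩
      rw [hΦ]
      exact Groth.QCohMod.germ_res G _ w.1 _ t
    | zero => exact ⟨0, zero_mem _, map_zero _⟩
    | add b b' _ _ hb hb' =>
      obtain ⟨a, ha, rfl⟩ := hb
      obtain ⟨a', ha', rfl⟩ := hb'
      exact ⟨a + a', add_mem ha ha', map_add _ _ _⟩
    | smul r b _ hb =>
      obtain ⟨a, ha, rfl⟩ := hb
      obtain ⟨V, hV, r, rfl⟩ := TopCat.Presheaf.exists_germ_eq X.presheaf r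
      obtain ⟨V', hV', m, rfl⟩ := Groth.QCohMod.exists_germ (G.restrict D.ι) w a
      let W : D.toScheme.Opens := V' ⊓ D.ι ⁻¹ᵁ V
      have hW : w ∈ W := ⟨hV', hV⟩
      have hWV : D.ι ''ᵁ W ≤ V := by rintro _ ⟨y, hy, rfl⟩; exact hy.2
      let r' : Γ(D.toScheme, W) := resX X hWV r
      let m' := Groth.PicAux.res (G.restrict D.ι) (inf_le_left : W ≤ V') m
      refine ⟨Groth.QCohMod.germ (G.restrict D.ι) w hW (r' • m'), ?_, ?_⟩
      · rw [Groth.QCohMod.germ_smul]
        refine S.smul_mem _ ?_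
        erw [Groth.QCohMod.germ_res]
        exact ha
      · rw [hΦ, hΦ]
        erw [restrict_smul D W (resX X hWV r), Groth.QCohMod.germ_smul]
        congr 1
        · exact TopCat.Presheaf.germ_res_apply X.presheaf (homOfLE hWV) w.1 ⟨w, hW, rfl⟩ r
        · exact Groth.QCohMod.germ_res G (D.ι.image_mono inf_le_left) w.1 ⟨w, hW, rfl⟩ _
  rw [eq_top_iff]
  intro a _
  obtain ⟨a', ha', he⟩ := key (Φ a) ((h w.1 w.2).ge Submodule.mem_top)
  exact hΦinj he ▸ ha'

/-- An epi counit gives generation on preimages of affine opens. -/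
theorem spansStalks_restrict_of_epi_counit (f : X ⟶ Y) [QuasiCompact f] [QuasiSeparated f]
    (G : X.Modules) [G.IsQuasicoherent]
    (h : Epi ((Scheme.Modules.pullbackPushforwardAdjunction f).counit.app G))
    {V : Y.Opens} (hV : IsAffineOpen V) : SpansStalks (G.restrict (f ⁻¹ᵁ V).ι) :=
  spansStalks_restrict_of_spanOn G _ fun z hz =>
    spanOn_of_epi_counit (hepi := h) f G hV (f.isQuasiSeparated_preimage hV.isQuasiSeparated) z hz

/-- Generation on preimages of opens makes the counit epi. -/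
theorem epi_counit_of_spansStalks (f : X ⟶ Y) (G : X.Modules)
    (h : ∀ y : Y, ∃ W : Y.Opens, y ∈ W ∧ SpansStalks (G.restrict (f ⁻¹ᵁ W).ι)) :
    Epi ((Scheme.Modules.pullbackPushforwardAdjunction f).counit.app G) :=
  epi_counit_of_spanOn f G fun z => by
    obtain ⟨W, hzW, hW⟩ := h (f z)
    exact ⟨W, hzW, spanOn_eq_top_of_restrict G _ hW z hzW⟩

/-- An invertible module with sections generating at every point is generated by sections. -/
theorem spansStalks_of_gloc {M : X.Modules} (h : ∀ x, ∃ t : Γ(M, ⊤), x ∈ gloc t) : SpansStalks M := by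
  intro x
  obtain ⟨t, ht⟩ := h x
  have he := gen_gloc t (le_refl (gloc t))
  rw [eq_top_iff]
  rintro v -
  obtain ⟨W, hW, y, rfl⟩ := Groth.QCohMod.exists_germ M x v
  obtain ⟨r, hr⟩ := he.exists_coeff (inf_le_right : W ⊓ gloc t ≤ gloc t)
    (Groth.PicAux.res M inf_le_left y)
  rw [Groth.PicAux.res_res] at hr
  have hx : x ∈ W ⊓ gloc t := ⟨hW, ht⟩
  rw [← Groth.QCohMod.germ_res M (inf_le_left : W ⊓ gloc t ≤ W) x hx y]
  refine Eq.mpr (congrArg (· ∈ _) (congrArg (Groth.QCohMod.germ M x hx) hr)) ?_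
  rw [Groth.QCohMod.germ_smul]
  refine Submodule.smul_mem _ _ (Submodule.subset_span ⟨t, ?_⟩)
  exact (Groth.QCohMod.germ_res M le_top x hx t).symm

end Groth.LimGen
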