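import Groth.Agent.Limits.AmpleStage
import Groth.Agent.LimGen.Basic

/-!
# Generation by global sections descends along limits with affine transition maps
-/

universe u

open CategoryTheory Limits AlgebraicGeometry TopologicalSpace Opposite

set_option backward.isDefEq.respectTransparency false
set_option backward.defeqAttrib.useBackward true
set_option backward.isDefEq.respectTransparency.types false

namespace Groth.LimGen

open Groth.PicAux Groth.PropsBasic.Ample Groth.LimitMod

variable {I : Type u} [Category.{u} I] [IsCofiltered I] {D : I ⥤ Scheme.{u}} {c : Cone D}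
  (hc : IsLimit c) [∀ (i j : I) (f : i ⟶ j), IsAffineHom (D.map f)]

include hc in
/-- Generation by global sections descends along limits with affine transition maps. -/
theorem exists_stage_spansStalks [∀ i, CompactSpace (D.obj i)] [∀ i, QuasiSeparatedSpace (D.obj i)]
    [CompactSpace c.pt] (i₀ : I) (L : (D.obj i₀).Modules) (hL : PicF.IsInvertible L)
    (h : Groth.Ega2Proj.SpansStalks ((Scheme.Modules.pullback (c.π.app i₀)).obj L)) :
    ∃ (i : I) (φ : i ⟶ i₀), Groth.Ega2Proj.SpansStalks ((Scheme.Modules.pullback (D.map φ)).obj L) := by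
  classical
  have : ∀ {i j : I} (f : i ⟶ j), IsAffineHom (D.map f) := fun {i j} f => inferInstance
  choose s hs using fun x => h.exists_mem_gloc (isInvertible_pullback _ hL) x
  obtain ⟨F, hF⟩ := isCompact_univ.elim_finite_subcover
    (fun x : c.pt => ((gloc (s x) : c.pt.Opens) : Set c.pt)) (fun x => (gloc (s x)).2)
    fun x _ => Set.mem_iUnion.2 ⟨x, hs x⟩
  choose j φ t ht using fun x => Groth.Limits.AmpleStage.exists_stage_section hc L hL (s x)
  have key : ∀ S : Finset c.pt, ∃ (k : I) (ψ : k ⟶ i₀), ∀ x ∈ S, ∃ u : k ⟶ j x, u ≫ φ x = ψ := by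
    intro S
    induction S using Finset.induction_on with
    | empty => exact ⟨i₀, 𝟙 _, fun y hy => absurd hy (Finset.notMem_empty y)⟩
    | insert a S ha ih =>
      obtain ⟨k, ψ, hk⟩ := ih
      obtain ⟨m, u, v, huv⟩ := IsCofiltered.cospan (φ a) ψ
      refine ⟨m, v ≫ ψ, fun y hy => ?_⟩
      rcases Finset.mem_insert.1 hy with rfl | hy
      · exact ⟨u, huv⟩
      · obtain ⟨w, hw⟩ := hk y hy
        exact ⟨v ≫ w, by rw [Category.assoc, hw]⟩
  obtain ⟨k, ψ, hk⟩ := key F
  choose u hu using hk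
  let W : (D.obj k).Opens := ⨆ x : {x // x ∈ F}, D.map (u x.1 x.2) ⁻¹ᵁ gloc (t x.1)
  have htop : c.π.app k ⁻¹ᵁ W = ⊤ := eq_top_iff.2 fun y _ => by
    obtain ⟨x, hx, hy⟩ := Set.mem_iUnion₂.1 (hF (Set.mem_univ y))
    refine Opens.mem_iSup.2 ⟨⟨x, hx⟩, ?_⟩
    have h2 : c.π.app (j x) y ∈ gloc (t x) := (ht x).le hy
    rwa [← c.w (u x hx)] at h2
  obtain ⟨i, v, hv⟩ := exists_map_eq_top D c hc W htop
  refine ⟨i, v ≫ ψ, spansStalks_of_gloc fun y => ?_⟩
  obtain ⟨⟨x, hx⟩, hy⟩ := Opens.mem_iSup.1 (hv.ge (Set.mem_univ y) : D.map v y ∈ W)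
  have hD : D.map (v ≫ u x hx) ≫ D.map (φ x) = D.map (v ≫ ψ) := by
    rw [← D.map_comp, Category.assoc, hu]
  let e := (Scheme.Modules.pullbackComp (D.map (v ≫ u x hx)) (D.map (φ x))).app L ≪≫
    (Scheme.Modules.pullbackCongr hD).app L
  refine ⟨e.hom.app ⊤ (pullSec (D.map (v ≫ u x hx)) _ (t x)), ?_⟩
  rw [gloc_map]
  refine (gloc_pullSec _ (isInvertible_pullback _ hL) _).ge ?_
  change D.map (v ≫ u x hx) y ∈ gloc (t x)
  rw [D.map_comp]
  exact hy

end Groth.LimGen
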